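import Groth.Agent.ProjBundleLib.FTSub
import Groth.Agent.OmegaAffLib.Ideal
import Groth.Agent.QCohLib.FiniteType

/-! On a quasi-compact quasi-separated scheme an ideal sheaf is the union of its subideals of finite type. -/

set_option autoImplicit false
set_option linter.style.haveILetI false
set_option backward.isDefEq.respectTransparency false

universe u

open CategoryTheory CategoryTheory.Limits AlgebraicGeometry TopologicalSpace Opposite

noncomputable section

namespace Groth.Agent.FTIdealLib

variable {X : Scheme.{u}}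

section image

variable {I : X.IdealSheafData} {G : X.Modules} (i : G ⟶ ClSub.idealMod I)

/-- The local functions of a module mapped to an ideal sheaf. -/
def fn (U : X.Opens) : Γ(G, U) →ₗ[Γ(X, U)] Γ(X, U) where
  toFun m := OmegaSh.idealSect I U (i.app U m)
  map_add' m m' := by rw [map_add, map_add]
  map_smul' r m := by
    rw [Scheme.Modules.Hom.app_smul, OmegaAffLib.idealSect_smul, RingHom.id_apply, smul_eq_mul]

theorem fn_res {U V : X.Opens} (h : V ≤ U) (m : Γ(G, U)) :
    fn i V (G.presheaf.map (homOfLE h).op m) = (X.presheaf.map (homOfLE h).op).hom (fn i U m) := by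
  show OmegaSh.idealSect I V (i.app V _) = (X.presheaf.map (homOfLE h).op).hom (OmegaSh.idealSect I U _)
  have h1 := ConcreteCategory.congr_hom (i.mapPresheaf.naturality (homOfLE h).op) m
  have h2 := ConcreteCategory.congr_hom ((ClSub.idealModι I).mapPresheaf.naturality (homOfLE h).op) (i.app U m)
  simp only [OmegaSh.idealSect_apply]
  erw [h1, h2]
  rfl

variable [Coh.IsQCoh G]

/-- The image of a quasi-coherent module in an ideal sheaf. -/
def imageIdeal : X.IdealSheafData where
  ideal U := Ideal.span (Set.range (fn i U.1))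
  map_ideal_basicOpen U f := by
    rw [Ideal.map_span]
    refine le_antisymm (Ideal.span_le.mpr ?_) (Ideal.span_le.mpr ?_)
    · rintro _ ⟨_, ⟨m, rfl⟩, rfl⟩
      exact Ideal.subset_span ⟨_, fn_res i (X.basicOpen_le f) m⟩
    · rintro _ ⟨t, rfl⟩
      obtain ⟨n, s, hs⟩ := (QCohLib.locAt G U.2).extend f t
      have h1 := congrArg (fn i (X.basicOpen f)) hs
      rw [fn_res] at h1
      have h2 : (X.presheaf.map (homOfLE (X.basicOpen_le f)).op).hom (fn i U.1 s) =
          (X.presheaf.map (homOfLE (X.basicOpen_le f)).op).hom (f ^ n) * fn i (X.basicOpen f) t :=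
        h1.trans ((fn i (X.basicOpen f)).map_smul _ t)
      have hu : IsUnit ((X.presheaf.map (homOfLE (X.basicOpen_le f)).op).hom (f ^ n)) := by
        rw [map_pow]
        exact (AlgebraicGeometry.RingedSpace.isUnit_res_basicOpen _ f).pow n
      obtain ⟨v, hv⟩ := hu
      have hm : (X.presheaf.map (homOfLE (X.basicOpen_le f)).op).hom (fn i U.1 s) ∈
          Ideal.span ((X.presheaf.map (homOfLE (X.basicOpen_le f)).op).hom '' Set.range (fn i U.1)) :=
        Ideal.subset_span ⟨_, ⟨s, rfl⟩, rfl⟩
      rw [h2, ← hv] at hm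
      exact (Ideal.unit_mul_mem_iff_mem _ v.isUnit).mp hm

theorem imageIdeal_le : imageIdeal i ≤ I := fun U => Ideal.span_le.mpr <| by
  rintro _ ⟨m, rfl⟩
  exact (OmegaAffLib.mem_range_idealSect I U _).mpr ⟨i.app U.1 m, rfl⟩

theorem imageIdeal_fg (hG : CohB1.IsFT G) (U : X.affineOpens) : ((imageIdeal i).ideal U).FG := by
  haveI := QCohLib.finite_sections G hG U.2
  obtain ⟨t, ht⟩ := Module.Finite.fg_top (R := Γ(X, U.1)) (M := Γ(G, U.1))
  classical
  refine ⟨t.image (fn i U.1), ?_⟩
  show Submodule.span _ _ = Submodule.span _ (Set.range (fn i U.1))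
  rw [Finset.coe_image, ← Submodule.map_span, ht, Submodule.map_top, ← LinearMap.coe_range,
    Submodule.span_eq]

end image

/-- An element of an ideal sheaf lies in a subideal of finite type. -/
theorem exists_ft_le_mem [CompactSpace X] [QuasiSeparatedSpace X] (I : X.IdealSheafData) (W : X.affineOpens)
    {a : Γ(X, W.1)} (ha : a ∈ I.ideal W) :
    ∃ J : X.IdealSheafData, J ≤ I ∧ (∀ U, (J.ideal U).FG) ∧ a ∈ J.ideal W := by
  haveI := OmegaAffLib.isQCoh_idealMod I
  obtain ⟨m, hm⟩ := (OmegaAffLib.mem_range_idealSect I W a).mp ha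
  obtain ⟨G, i, hG, hft, -, hmem⟩ := ProjBundleLib.exists_ft_through (M := ClSub.idealMod I)
    (fun _ : Unit => W.1) (fun _ => W.2) (fun _ => m)
  obtain ⟨g, hg⟩ := hmem ()
  refine ⟨imageIdeal i, imageIdeal_le i, imageIdeal_fg i hft, Ideal.subset_span ⟨g, ?_⟩⟩
  show OmegaSh.idealSect I W.1 (i.app W.1 g) = a
  rw [hg, hm]

end Groth.Agent.FTIdealLib
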